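import Cfsg.Agent.PM.Sound

set_option autoImplicit false

/-! Representations given by packed matrices. -/

namespace Cfsg.Agent.PM

open Cfsg.Agent.CGT
open Matrix hiding ext

namespace Par

variable (T : Par)

/-- Square matrices. -/
abbrev M : Type := Matrix (Fin T.n) (Fin T.n) (ZMod T.p)

/-- The letters of `w` are below `m`. -/
noncomputable def inR (w : List ℕ) (m : ℕ) : Bool := allL w fun a => Nat.blt a m

/-- Multiply the `m` rows `V` with a word. -/
noncomputable def wk (As : List (List ℕ)) (m : ℕ) (V w : List ℕ) (k : Env → ℕ → Bool) : Bool :=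
  inR w As.length && T.run m fun E => lt' (T.pk V) fun P => T.word E As w (k E) P

/-- `V * w = Z`. -/
noncomputable def weq (As : List (List ℕ)) (m : ℕ) (V w Z : List ℕ) : Bool :=
  T.wk As m V w fun _ Y => Nat.beq Y (T.pk Z)

/-- The word is trivial. -/
noncomputable def isOne (As : List (List ℕ)) (w : List ℕ) : Bool := T.weq As T.n T.idR w T.idR

/-- The word is non-trivial: it moves the entry `j` of the row `v`. -/
noncomputable def moves (As : List (List ℕ)) (v : ℕ) (w : List ℕ) (j : ℕ) : Bool :=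
  T.rowsB [v] && (Nat.blt j T.n && T.wk As 1 [v] w fun _ Y =>
    !(Nat.beq (Nat.mod (dg (Nat.pow 2 T.w) Y j) T.p) (Nat.mod (dg (Nat.pow 2 T.w) v j) T.p)))

/-- All the matrices are reduced. -/
noncomputable def allB (As : List (List ℕ)) : Bool :=
  allL As fun A => T.rowsB A && Nat.beq A.length T.n

open Classical in
/-- The generators. -/
noncomputable def gen (As : List (List ℕ)) (j : ℕ) : T.Mˣ :=
  if h : 2 * j < As.length ∧ IsUnit (T.matR T.n T.n (nth [] As (2 * j))) then h.2.unit else 1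

variable {T} {g : ℕ → T.M} {As : List (List ℕ)}

theorem wk_sound (h : T.ok = true) (hg : T.Lets g As) {m : ℕ} {V w : List ℕ} (hV : T.Rows V)
    {k : Env → ℕ → Bool} (hk : T.wk As m V w k = true) : ∃ E Y, T.EOK m E ∧ k E Y = true ∧
      Bd T.B T.cr Y ∧ T.matW m T.n Y = T.matR m T.n V * ev g w := by
  simp only [wk, inR, Bool.and_eq_true, allL_iff, Nat.blt_eq] at hk
  obtain ⟨E, hE, h1⟩ := run_sound h hk.2
  obtain ⟨Y, h2, h3, h4⟩ := word_sound h hE hg hk.1 (bd_pk h hV) h1
  exact ⟨E, Y, hE, h2, h3, by rw [h4 m le_rfl, matW_pk hV m le_rfl]⟩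

theorem weq_sound (h : T.ok = true) (hg : T.Lets g As) {m : ℕ} {V w Z : List ℕ} (hV : T.Rows V)
    (hZ : T.Rows Z) (hk : T.weq As m V w Z = true) :
    T.matR m T.n V * ev g w = T.matR m T.n Z := by
  obtain ⟨E, Y, -, h1, -, h2⟩ := wk_sound h hg hV hk
  rw [← h2, Nat.eq_of_beq_eq_true h1, matW_pk hZ m le_rfl]

theorem isOne_sound (h : T.ok = true) (hg : T.Lets g As) {w : List ℕ} (hk : T.isOne As w = true) :
    ev g w = 1 := by
  simpa [matR_idR h] using weq_sound h hg (rows_idR h) (rows_idR h) hk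

theorem moves_sound (h : T.ok = true) (hg : T.Lets g As) {v j : ℕ} {w : List ℕ}
    (hk : T.moves As v w j = true) : ev g w ≠ 1 := by
  simp only [moves, Bool.and_eq_true, Nat.blt_eq] at hk
  obtain ⟨E, Y, -, h1, -, h2⟩ := wk_sound h hg (rowsB_sound h hk.1) hk.2.2
  intro e
  rw [e, Matrix.mul_one] at h2
  have h3 := congrFun (congrFun h2 0) ⟨j, hk.2.1⟩
  simp only [matW, matR, of_apply, Fin.val_zero, mul_zero, zero_add] at h3
  have h4 : dg T.B Y j % T.p = dg T.B v j % T.p := (ZMod.natCast_eq_natCast_iff' _ _ _).1 h3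
  have h5 : (!(Nat.beq (dg T.B Y j % T.p) (dg T.B v j % T.p))) = true := h1
  simp [h4] at h5

theorem lets_mat (h : T.ok = true) (hA : T.allB As = true) :
    T.Lets (fun a => T.matR T.n T.n (nth [] As a)) As := fun a ha => by
  have := allL_iff.1 hA _ (FT.nth_mem [] ha)
  rw [Bool.and_eq_true, Nat.beq_eq] at this
  exact ⟨rowsB_sound h this.1, this.2, rfl⟩

theorem gen_of_le {j : ℕ} (hj : As.length ≤ 2 * j) : T.gen As j = 1 := dif_neg fun h => by omega

theorem lets_gen (h : T.ok = true) (hA : T.allB As = true) {m : ℕ} (hl : As.length = 2 * m)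
    (hi : ∀ j < m, T.isOne As [2 * j, 2 * j + 1] = true) :
    T.Lets (fun a => (ext (T.gen As) a).val) As := fun a ha => by
  have H := lets_mat h hA
  refine ⟨(H a ha).1, (H a ha).2.1, ?_⟩
  have key : ∀ j < m, (T.gen As j).val = T.matR T.n T.n (nth [] As (2 * j)) ∧
      ((T.gen As j)⁻¹).val = T.matR T.n T.n (nth [] As (2 * j + 1)) := fun j hj => by
    have h1 := isOne_sound h H (hi j hj)
    simp only [ev_cons, ev_nil, mul_one] at h1
    have h2 : (T.gen As j).val = T.matR T.n T.n (nth [] As (2 * j)) := by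
      rw [gen, dif_pos ⟨by omega, IsUnit.of_mul_eq_one _ h1⟩]; rfl
    exact ⟨h2, Units.inv_eq_of_mul_eq_one_right (h2 ▸ h1)⟩
  obtain ⟨j, rfl | rfl⟩ := Nat.even_or_odd' a
  · simp only [ext_two_mul]; exact (key j (by omega)).1
  · simp only [ext_two_mul_add_one]; exact (key j (by omega)).2

theorem ev_coe {G : Type*} [Group G] (ρ : G →* T.Mˣ)
    (γ : ℕ → G) (w : List ℕ) :
    (ρ (ev (ext γ) w)).val = ev (fun a => (ρ (ext γ a)).val) w :=
  map_ev (ext γ) ((Units.coeHom _).comp ρ) w

variable (T) in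
/-- The representation `ρ` has the matrices `As` on the letters. -/
def IsRep {G : Type*} [Group G] (ρ : G →* T.Mˣ) (γ : ℕ → G)
    (As : List (List ℕ)) : Prop := T.Lets (fun a => (ρ (ext γ a)).val) As

section
variable {G : Type*} [Group G] {ρ : G →* T.Mˣ} {γ : ℕ → G}

theorem IsRep.one (h : T.ok = true) (hg : T.IsRep ρ γ As) {w : List ℕ} (hk : T.isOne As w = true) :
    ρ (ev (ext γ) w) = 1 := Units.ext (by rw [ev_coe]; exact isOne_sound h hg hk)

theorem IsRep.ne (h : T.ok = true) (hg : T.IsRep ρ γ As) {v j : ℕ} {w : List ℕ}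
    (hk : T.moves As v w j = true) : ρ (ev (ext γ) w) ≠ 1 := fun e =>
  moves_sound h hg hk (by rw [← ev_coe, e]; rfl)

theorem holds_gen (h : T.ok = true)
    (hg : T.Lets (fun a => (ext (T.gen As) a).val) As) {w : List ℕ}
    (hk : T.isOne As w = true) : ev (ext (T.gen As)) w = 1 :=
  IsRep.one (ρ := MonoidHom.id _) h hg hk

theorem isRep_of (hg : T.Lets (fun a => (ext (T.gen As) a).val) As)
    (hρ : ∀ j, ρ (γ j) = T.gen As j) : T.IsRep ρ γ As := by
  unfold IsRep
  simpa only [map_ext, hρ] using hg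

/-- New letters given by words. -/
theorem IsRep.der (h : T.ok = true) (hg : T.IsRep ρ γ As) {W Bs : List (List ℕ)}
    (hB : T.allB Bs = true) (hl : Bs.length = 2 * W.length)
    (hw : ∀ a < Bs.length, T.weq As T.n T.idR (nth [] (dbl W) a) (nth [] Bs a) = true) :
    T.IsRep ρ (wg γ W) Bs := fun a ha => by
  have H := lets_mat h hB a ha
  refine ⟨H.1, H.2.1, ?_⟩
  have := weq_sound h hg (rows_idR h) H.1 (hw a ha)
  rw [matR_idR h, Matrix.one_mul, ← ev_coe] at this
  rw [← this, ← der_dbl]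
  rfl

end

end Par

end Cfsg.Agent.PM
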