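import Cfsg.Agent.CGT.Mat

set_option autoImplicit false

/-! Matrices modulo a prime, packed into natural numbers: the entries are digits in base `2 ^ w`.
The left factor of a product is one number (rows of `n` digits), the right factor a list of rows. -/

namespace Cfsg.Agent.PM

open Cfsg.Agent.CGT Matrix

/-- Digit `i` of `x` in base `B`. -/
def dg (B x i : ℕ) : ℕ := x / B ^ i % B

theorem dg_zero' (B x : ℕ) : dg B x 0 = x % B := by simp [dg]

theorem dg_succ' (B x i : ℕ) : dg B x (i + 1) = dg B (x / B) i := by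
  rw [dg, dg, pow_succ', Nat.div_div_eq_div_mul]

theorem dg_of_zero (B i : ℕ) : dg B 0 i = 0 := by simp [dg]

theorem dg_div_pow (B x j i : ℕ) : dg B (x / B ^ j) i = dg B x (j + i) := by
  rw [dg, dg, pow_add, Nat.div_div_eq_div_mul]

theorem dg_add {B : ℕ} {a b : ℕ} (h : ∀ i, dg B a i + dg B b i < B) (i : ℕ) :
    dg B (a + b) i = dg B a i + dg B b i := by
  induction i generalizing a b with
  | zero =>
    have := h 0
    rw [dg_zero', dg_zero'] at this
    rw [dg_zero', dg_zero', dg_zero', Nat.add_mod, Nat.mod_eq_of_lt this]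
  | succ i ih =>
    have h0 := h 0
    rw [dg_zero', dg_zero'] at h0
    have hB : 0 < B := by omega
    rw [dg_succ', dg_succ', dg_succ', Nat.add_div hB, if_neg (by omega), add_zero]
    exact ih fun j => by simpa only [dg_succ'] using h (j + 1)

theorem dg_mul {B : ℕ} {c a : ℕ} (h : ∀ i, c * dg B a i < B) (i : ℕ) :
    dg B (c * a) i = c * dg B a i := by
  induction c generalizing i with
  | zero => simp [dg_of_zero]
  | succ c ih =>
    have h1 : ∀ i, c * dg B a i < B := fun i => by have := h i; nlinarith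
    rw [Nat.succ_mul, dg_add fun j => by rw [ih h1, ← Nat.succ_mul]; exact h j, ih h1, Nat.succ_mul]

theorem dg_and (w a b i : ℕ) : dg (2 ^ w) (a &&& b) i = dg (2 ^ w) a i &&& dg (2 ^ w) b i := by
  rw [dg, dg, dg, ← pow_mul, Nat.and_div_two_pow, Nat.and_mod_two_pow]

theorem dg_dg {B n : ℕ} (x i : ℕ) {l : ℕ} (hl : l < n) :
    dg B (dg (B ^ n) x i) l = dg B x (n * i + l) := by
  rw [← dg_div_pow, dg, dg, dg, ← pow_mul]
  obtain ⟨d, rfl⟩ := Nat.exists_eq_add_of_lt hl
  rw [show l + d + 1 = l + (d + 1) by omega, pow_add, Nat.mod_mul_right_div_self,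
    Nat.mod_mod_of_dvd _ (dvd_pow_self _ (by omega))]

theorem dg_cons {X r : ℕ} (hr : r < X) (y : ℕ) :
    dg X (r + X * y) 0 = r ∧ ∀ i, dg X (r + X * y) (i + 1) = dg X y i := by
  refine ⟨by rw [dg_zero', Nat.add_mul_mod_self_left, Nat.mod_eq_of_lt hr], fun i => ?_⟩
  rw [dg_succ', Nat.add_mul_div_left _ _ (by omega), Nat.div_eq_of_lt hr, zero_add]

theorem dg_pow {B : ℕ} (hB : 2 ≤ B) (i l : ℕ) : dg B (B ^ i) l = if i = l then 1 else 0 := by
  induction i generalizing l with
  | zero =>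
    rcases l with _ | l
    · rw [dg_zero', pow_zero, Nat.mod_eq_of_lt hB]; rfl
    · rw [dg_succ', pow_zero, Nat.div_eq_of_lt hB, dg_of_zero]; simp
  | succ i ih =>
    have := dg_cons (X := B) (r := 0) (by omega) (B ^ i)
    rw [zero_add, ← pow_succ'] at this
    rcases l with _ | l
    · rw [this.1]; simp
    · rw [this.2, ih]; simp

/-- The number with `m` digits `c`. -/
def rp (X c m : ℕ) : ℕ := Nat.mul c (Nat.div (Nat.sub (Nat.pow X m) 1) (Nat.sub X 1))

theorem dg_rp {X c : ℕ} (hX : 2 ≤ X) (hc : c < X) (m i : ℕ) :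
    dg X (rp X c m) i = if i < m then c else 0 := by
  have e : ∀ m, rp X c m = c * ∑ k ∈ Finset.range m, X ^ k := fun m => by
    rw [Nat.geomSum_eq hX]; rfl
  induction m generalizing i with
  | zero => simp [e, dg_of_zero]
  | succ m ih =>
    have h : rp X c (m + 1) = c + X * rp X c m := by
      rw [e, e, Finset.sum_range_succ', mul_add, pow_zero, mul_one, add_comm, mul_left_comm,
        Finset.mul_sum _ _ X]
      simp only [pow_succ']
    rw [h]
    rcases i with _ | i
    · rw [(dg_cons hc _).1]; simp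
    · rw [(dg_cons hc _).2, ih]; simp

/-- All digits are at most `c`. -/
def Bd (B c x : ℕ) : Prop := ∀ t, dg B x t ≤ c

theorem Bd.and {w c M : ℕ} (h : Bd (2 ^ w) c M) (x : ℕ) : Bd (2 ^ w) c (x &&& M) := fun t => by
  rw [dg_and]; exact Nat.and_le_right.trans (h t)

theorem bd_rp {X c : ℕ} (hX : 2 ≤ X) (hc : c < X) (m : ℕ) : Bd X c (rp X c m) := fun t => by
  rw [dg_rp hX hc]; split_ifs <;> omega

/-- The parameters: modulus, width, row length, bounds, reduction steps. -/
structure Par where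
  p : ℕ
  w : ℕ
  n : ℕ
  cq : ℕ
  cr : ℕ
  st : List (ℕ × ℕ × ℕ)

/-- The masks. -/
structure Env where
  cm : ℕ
  mq : ℕ
  mr : ℕ
  one : ℕ

namespace Par

variable (T : Par)

/-- The base. -/
abbrev B : ℕ := 2 ^ T.w

noncomputable def ok : Bool :=
  Nat.ble 1 T.w && (Nat.ble 1 T.n && (Nat.ble 1 T.cr && (Nat.blt (T.cr + T.p * T.cq) (2 ^ T.w) &&
    (Nat.blt (T.n * (T.cr * T.cr)) (2 ^ T.w) && Nat.ble 1 T.p))))

structure EOK (rows : ℕ) (E : Env) : Prop where
  cm : ∀ i, dg (T.B ^ T.n) E.cm i = if i < rows then T.B - 1 else 0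
  mq : Bd T.B T.cq E.mq
  mr : Bd T.B T.cr E.mr

/-- Compute the masks. -/
noncomputable def run (rows : ℕ) (k : Env → Bool) : Bool :=
  lt' (rp (Nat.pow 2 (Nat.mul T.w T.n)) (Nat.sub (Nat.pow 2 T.w) 1) rows) fun cm =>
  lt' (rp (Nat.pow 2 T.w) 1 (Nat.mul T.n rows)) fun one =>
  lt' (rp (Nat.pow 2 T.w) T.cq (Nat.mul T.n rows)) fun mq =>
  lt' (rp (Nat.pow 2 T.w) T.cr (Nat.mul T.n rows)) fun mr => k ⟨cm, mq, mr, one⟩

/-- A guess of the quotients. -/
noncomputable def quo (E : Env) (k : ℕ → Bool) (y q : ℕ) : Bool :=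
  List.rec (motive := fun _ => ℕ → ℕ → Bool) (fun _ q => k q)
    (fun s _ ih y q => lt' (Nat.land (Nat.shiftRight (Nat.add (Nat.mul y s.1) (Nat.mul E.one s.2.1))
      s.2.2) E.mq) fun d => lt' (Nat.sub y (Nat.mul T.p d)) fun y' => lt' (Nat.add q d) fun q' =>
        ih y' q') T.st y q

/-- Reduction of all digits. -/
noncomputable def red (E : Env) (k : ℕ → Bool) (x : ℕ) : Bool :=
  T.quo E (fun q => lt' (Nat.mul T.p (Nat.land q E.mq)) fun d =>
    lt' (Nat.land (Nat.sub x d) E.mr) fun r => Bool.rec false (k r) (Nat.beq (Nat.add r d) x)) x 0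

/-- `acc + P * A` without reduction. -/
noncomputable def acm (E : Env) (A : List ℕ) (k : ℕ → Bool) (P acc : ℕ) : Bool :=
  List.rec (motive := fun _ => ℕ → ℕ → Bool) (fun _ acc => k acc)
    (fun r _ ih P acc => lt' (Nat.add acc (Nat.mul r (Nat.land P E.cm))) fun acc' =>
      lt' (Nat.shiftRight P T.w) fun P' => ih P' acc') A P acc

/-- The product `P * A`. -/
noncomputable def mul (E : Env) (A : List ℕ) (k : ℕ → Bool) (P : ℕ) : Bool :=
  T.acm E A (T.red E k) P 0

/-- The product of `P` with a word. -/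
noncomputable def word (E : Env) (As : List (List ℕ)) (w : List ℕ) (k : ℕ → Bool) (P : ℕ) : Bool :=
  List.rec (motive := fun _ => ℕ → Bool) k (fun a _ ih P => T.mul E (nth [] As a) ih P) w P

/-- The rows put together. -/
noncomputable def pk (A : List ℕ) : ℕ :=
  List.rec 0 (fun r _ ih => Nat.add r (Nat.mul (Nat.pow 2 (Nat.mul T.w T.n)) ih)) A

/-- The rows of the identity matrix. -/
noncomputable def idR : List ℕ := (List.range T.n).map fun i => Nat.pow 2 (Nat.mul T.w i)

end Par

end Cfsg.Agent.PM
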