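import Cfsg.Agent.PM.Rep

set_option autoImplicit false
set_option linter.style.haveILetI false

/-! Families of row and column vectors permuted by a group; invariant functions on pairs. -/

namespace Cfsg.Agent.PM

open Cfsg.Agent.CGT Equiv
open Matrix hiding ext

theorem field_eq_dg (w x i : ℕ) : field w (msk w) x i = dg (2 ^ w) x i := by
  rw [field, land_eq, shr_eq, msk_eq, Nat.and_two_pow_sub_one_eq_mod, Nat.shiftRight_eq_div_pow, dg,
    ← pow_mul, mul_comm w]
  rfl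

/-- A sum for the kernel. -/
noncomputable def sumLt (N : ℕ) (f : ℕ → ℕ) : ℕ := Nat.rec 0 (fun i ih => Nat.add ih (f i)) N

theorem sumLt_eq (N : ℕ) (f : ℕ → ℕ) : sumLt N f = ∑ i ∈ Finset.range N, f i := by
  induction N with
  | zero => rfl
  | succ N ih => rw [Finset.sum_range_succ, ← ih]; rfl

/-- Evaluate `x` to a literal and pass it on. -/
noncomputable def ln (x : ℕ) (k : ℕ → ℕ) : ℕ := Nat.rec (k x) (fun m _ => k m) (Nat.succ x)

theorem cnt_mod {N q : ℕ} (hq : q.Prime) {π : Perm ℕ} (hπ : π ∈ bddPerm N) (h : π ^ q = 1) {b : ℕ}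
    (hb : ∀ i < N, π i = i → i = b) (P : ℕ → ℕ → Prop) [∀ i j, Decidable (P i j)]
    (hP : ∀ i < N, ∀ j < N, P i j → P (π i) (π j)) :
    (∑ i ∈ Finset.range N, ∑ j ∈ Finset.range N, if P i j then 1 else 0) % q ≤ 1 := by
  haveI := Fact.mk hq
  let S := (Finset.range N ×ˢ Finset.range N).filter fun x => P x.1 x.2
  have hS : ∀ x, x ∈ S ↔ (x.1 < N ∧ x.2 < N) ∧ P x.1 x.2 := fun x => by simp [S]
  let f : Function.End S := fun x => ⟨(π x.1.1, π x.1.2), by
    obtain ⟨⟨h1, h2⟩, h3⟩ := (hS _).1 x.2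
    exact (hS _).2 ⟨⟨bddPerm_lt hπ h1, bddPerm_lt hπ h2⟩, hP _ h1 _ h2 h3⟩⟩
  have hf : ∀ n : ℕ, ∀ x : S, ((f ^ n) x).1 = ((π ^ n) x.1.1, (π ^ n) x.1.2) := fun n => by
    induction n with
    | zero => intro x; rfl
    | succ n ih => intro x; rw [pow_succ, pow_succ]; exact ih (f x)
  have h1 := Equiv.Perm.card_fixedPoints_modEq (f := f) (p := q) (n := 1) (by
    funext x; apply Subtype.ext; rw [pow_one, hf, h]; rfl)
  have h2 : Fintype.card f.fixedPoints ≤ 1 := Fintype.card_le_one_iff.2 fun x y => by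
    have key : ∀ x : f.fixedPoints, x.1.1 = (b, b) := fun x => by
      have e := congrArg Subtype.val (x.2 : f x.1 = x.1)
      obtain ⟨⟨h1, h2⟩, -⟩ := (hS _).1 x.1.2
      exact Prod.ext (hb _ h1 (congrArg Prod.fst e)) (hb _ h2 (congrArg Prod.snd e))
    exact Subtype.ext (Subtype.ext ((key x).trans (key y).symm))
  rw [← Finset.sum_product', ← Finset.card_filter, ← Fintype.card_coe, h1]
  exact (Nat.mod_le _ _).trans h2

theorem cnt_mod1 {N q : ℕ} (hq : q.Prime) {π : Perm ℕ} (hπ : π ∈ bddPerm N) (h : π ^ q = 1) {b : ℕ}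
    (hb : ∀ i < N, π i = i → i = b) (P : ℕ → Prop) [DecidablePred P]
    (hP : ∀ i < N, P i → P (π i)) : (∑ i ∈ Finset.range N, if P i then 1 else 0) % q ≤ 1 := by
  have := cnt_mod hq hπ h hb (fun i j => i = j ∧ P i) fun i hi j _ e => ⟨by rw [e.1], hP i hi e.2⟩
  rwa [Finset.sum_congr rfl (g := fun i => if P i then 1 else 0) fun i hi => by
    simp only [ite_and, Finset.sum_ite_eq, if_pos hi]] at this

theorem rec_beq (x c : ℕ) :
    Bool.rec (motive := fun _ => ℕ) 0 1 (Nat.beq x c) = if x = c then 1 else 0 := by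
  by_cases hx : x = c
  · rw [if_pos hx, show Nat.beq x c = true from Nat.beq_eq ▸ hx]
  · rw [if_neg hx, show Nat.beq x c = false from
      Bool.eq_false_iff.2 fun e => hx (Nat.eq_of_beq_eq_true e)]

namespace Par

variable (T : Par)

/-- Row `i`. -/
noncomputable def vR (V : List ℕ) (i : ℕ) : Fin T.n → ZMod T.p := fun c => dg T.B (nth 0 V i) c

/-- Column `i`. -/
noncomputable def uC (U : List ℕ) (i : ℕ) : Fin T.n → ZMod T.p := fun r => dg T.B (nth 0 U r) i

/-- Row `i` of a packed matrix. -/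
def row (Y i : ℕ) : ℕ := field (Nat.mul T.w T.n) (msk (Nat.mul T.w T.n)) Y i

/-- The letter `a` permutes the rows and the columns according to `f`. -/
noncomputable def famB (As : List (List ℕ)) (N : ℕ) (V U : List ℕ) (a : ℕ) (f : ℕ → ℕ) : Bool :=
  (T.wk As N V [a] fun _ Y => allLt N fun i => Nat.blt (f i) N && Nat.beq (T.row Y (f i)) (nth 0 V i)) &&
  (T.wk As T.n T.idR [a] fun E Y => T.mul E U (fun Z => allLt T.n fun r =>
    lt' (T.row Z r) fun z => lt' (nth 0 U r) fun u => allLt N fun i =>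
      Nat.beq (field T.w (msk T.w) z i) (field T.w (msk T.w) u (f i))) Y)

/-- The number of entries `c` of `V w U`, modulo `q`, is at least two. -/
noncomputable def cntB (As : List (List ℕ)) (N : ℕ) (V U w : List ℕ) (c q : ℕ) : Bool :=
  Nat.blt c T.p && T.wk As N V w fun E Y => T.mul E U (fun Z => Nat.ble 2 (Nat.mod (sumLt N fun i =>
    ln (T.row Z i) fun z => sumLt N fun j =>
      Bool.rec 0 1 (Nat.beq (Nat.mod (field T.w (msk T.w) z j) T.p) c)) q)) Y

/-- The number of diagonal entries `c` of `V w U`, modulo `q`, is at least two. -/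
noncomputable def diaB (As : List (List ℕ)) (N : ℕ) (V U w : List ℕ) (c q : ℕ) : Bool :=
  T.wk As N V w fun E Y => T.mul E U (fun Z => Nat.ble 2 (Nat.mod (sumLt N fun i =>
    Bool.rec 0 1 (Nat.beq (Nat.mod (field T.w (msk T.w) (T.row Z i) i) T.p) c)) q)) Y

/-- The rows are distinct. -/
noncomputable def disB (V cs : List ℕ) : Bool :=
  allL cs (fun c => Nat.blt c T.n) &&
    decide (V.map fun v => cs.map fun c => Nat.mod (field T.w (msk T.w) v c) T.p).Nodup

variable {T} {As : List (List ℕ)}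

theorem row_eq (Y i : ℕ) : T.row Y i = dg (T.B ^ T.n) Y i := by
  rw [row, field_eq_dg, ← pow_mul]; rfl

theorem disB_sound {V cs : List ℕ} (h : T.disB V cs = true) {i j : ℕ} (hi : i < V.length)
    (hj : j < V.length) (e : T.vR V i = T.vR V j) : i = j := by
  simp only [disB, Bool.and_eq_true, allL_iff, Nat.blt_eq, decide_eq_true_eq] at h
  refine (List.Nodup.getElem_inj_iff h.2 (hi := by simpa using hi) (hj := by simpa using hj)).1 ?_
  rw [List.getElem_map, List.getElem_map]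
  refine List.map_congr_left fun c hc => ?_
  have := congrFun e ⟨c, h.1 c hc⟩
  simp only [vR, nth_eq, List.getD_eq_getElem _ _ hi, List.getD_eq_getElem _ _ hj] at this
  rw [field_eq_dg, field_eq_dg]
  exact (ZMod.natCast_eq_natCast_iff' _ _ _).1 this

theorem famB_sound (h : T.ok = true) {g : ℕ → T.M} (hg : T.Lets g As) {N : ℕ} (hN : N ≤ T.n)
    {V U : List ℕ} (hV : T.Rows V) (hU : T.Rows U) (hl : U.length = T.n) {a : ℕ} {f : ℕ → ℕ}
    (hk : T.famB As N V U a f = true) {i : ℕ} (hi : i < N) :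
    T.vR V (f i) ᵥ* g a = T.vR V i ∧ g a *ᵥ T.uC U i = T.uC U (f i) := by
  rw [famB, Bool.and_eq_true] at hk
  constructor
  · obtain ⟨E, Y, -, h1, -, h2⟩ := wk_sound h hg hV hk.1
    have h3 := allLt_iff.1 h1 i hi
    rw [Bool.and_eq_true, Nat.blt_eq, Nat.beq_eq, row_eq] at h3
    obtain ⟨h3, h4⟩ := h3
    funext c
    have := congrFun (congrFun h2 ⟨f i, h3⟩) c
    rw [matW, of_apply, ← dg_dg _ _ c.2, h4, ev_singleton] at this
    exact this.symm
  · obtain ⟨E, Y, hE, h1, h4, h2⟩ := wk_sound h hg (rows_idR h) hk.2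
    obtain ⟨Z, h5, -, h6⟩ := mul_sound h hE hU hl le_rfl h4 h1
    funext r
    have h3 := allLt_iff.1 (allLt_iff.1 h5 r r.2) i hi
    rw [Nat.beq_eq, field_eq_dg, field_eq_dg, row_eq, dg_dg _ _ (by omega)] at h3
    have := congrFun (congrFun (h6 _ le_rfl N hN) r) ⟨i, hi⟩
    rw [h2, matR_idR h, Matrix.one_mul, ev_singleton, matW, of_apply, h3] at this
    exact this.symm

theorem cntB_sound (h : T.ok = true) {g : ℕ → T.M} (hg : T.Lets g As) {N : ℕ} (hN : N ≤ T.n)
    {V U : List ℕ} (hV : T.Rows V) (hU : T.Rows U) (hl : U.length = T.n) {w : List ℕ} {c q : ℕ}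
    (hk : T.cntB As N V U w c q = true) (hq : q.Prime) {π : Perm ℕ} (hπ : π ∈ bddPerm N)
    (h1 : π ^ q = 1) {b : ℕ} (hb : ∀ i < N, π i = i → i = b) {s : T.M}
    (hs : ∀ i < N, T.vR V (π i) ᵥ* s = T.vR V i ∧ s *ᵥ T.uC U i = T.uC U (π i)) :
    ¬ Commute s (ev g w) := fun hc => by
  rw [cntB, Bool.and_eq_true, Nat.blt_eq] at hk
  obtain ⟨E, Y, hE, h2, h3, h4⟩ := wk_sound h hg hV hk.2
  obtain ⟨Z, h5, -, h6⟩ := mul_sound h hE hU hl le_rfl h3 h2
  have h7 : ∀ i < N, ∀ j < N, (dg T.B (dg (T.B ^ T.n) Z i) j : ZMod T.p) =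
      T.vR V i ⬝ᵥ (ev g w *ᵥ T.uC U j) := fun i hi j hj => by
    have := congrFun (congrFun (h6 _ le_rfl N hN) ⟨i, hi⟩) ⟨j, hj⟩
    rw [h4, matW, of_apply, ← dg_dg _ _ (by omega), Matrix.mul_assoc] at this
    exact this
  have h8 := cnt_mod hq hπ h1 hb (fun i j => dg T.B (dg (T.B ^ T.n) Z i) j % T.p = c)
    fun i hi j hj e => by
      have e1 := h7 _ (bddPerm_lt hπ hi) _ (bddPerm_lt hπ hj)
      rw [← (hs j hj).2, mulVec_mulVec, ← hc.eq, ← mulVec_mulVec, dotProduct_mulVec, (hs i hi).1,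
        ← h7 i hi j hj, ZMod.natCast_eq_natCast_iff'] at e1
      exact e1.trans e
  have h9 : 2 ≤ (sumLt N fun i => sumLt N fun j => Bool.rec (motive := fun _ => ℕ) 0 1
      (Nat.beq (Nat.mod (field T.w (msk T.w) (T.row Z i) j) T.p) c)) % q := Nat.le_of_ble_eq_true h5
  simp only [sumLt_eq, field_eq_dg, row_eq] at h9
  simp only [rec_beq] at h9
  exact absurd (h9.trans h8) (by decide)

theorem diaB_sound (h : T.ok = true) {g : ℕ → T.M} (hg : T.Lets g As) {N : ℕ} (hN : N ≤ T.n)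
    {V U : List ℕ} (hV : T.Rows V) (hU : T.Rows U) (hl : U.length = T.n) {w : List ℕ} {c q : ℕ}
    (hk : T.diaB As N V U w c q = true) (hq : q.Prime) {π : Perm ℕ} (hπ : π ∈ bddPerm N)
    (h1 : π ^ q = 1) {b : ℕ} (hb : ∀ i < N, π i = i → i = b) {s : T.M}
    (hs : ∀ i < N, T.vR V (π i) ᵥ* s = T.vR V i ∧ s *ᵥ T.uC U i = T.uC U (π i)) :
    ¬ Commute s (ev g w) := fun hc => by
  obtain ⟨E, Y, hE, h2, h3, h4⟩ := wk_sound h hg hV hk
  obtain ⟨Z, h5, -, h6⟩ := mul_sound h hE hU hl le_rfl h3 h2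
  have h7 : ∀ i < N, (dg T.B (dg (T.B ^ T.n) Z i) i : ZMod T.p) =
      T.vR V i ⬝ᵥ (ev g w *ᵥ T.uC U i) := fun i hi => by
    have := congrFun (congrFun (h6 _ le_rfl N hN) ⟨i, hi⟩) ⟨i, hi⟩
    rw [h4, matW, of_apply, ← dg_dg _ _ (by omega), Matrix.mul_assoc] at this
    exact this
  have h8 := cnt_mod1 hq hπ h1 hb (fun i => dg T.B (dg (T.B ^ T.n) Z i) i % T.p = c)
    fun i hi e => by
      have e1 := h7 _ (bddPerm_lt hπ hi)
      rw [← (hs i hi).2, mulVec_mulVec, ← hc.eq, ← mulVec_mulVec, dotProduct_mulVec, (hs i hi).1,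
        ← h7 i hi, ZMod.natCast_eq_natCast_iff'] at e1
      exact e1.trans e
  have h9 : 2 ≤ (sumLt N fun i => Bool.rec (motive := fun _ => ℕ) 0 1
      (Nat.beq (Nat.mod (field T.w (msk T.w) (T.row Z i) i) T.p) c)) % q := Nat.le_of_ble_eq_true h5
  simp only [sumLt_eq, field_eq_dg, row_eq, rec_beq] at h9
  exact absurd (h9.trans h8) (by decide)

end Par

end Cfsg.Agent.PM
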