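import Cfsg.Agent.PM.Basic
import Cfsg.Agent.CGT.Mat2

set_option autoImplicit false

/-! Soundness of the packed matrix arithmetic. -/

namespace Cfsg.Agent.PM

open Cfsg.Agent.CGT Matrix

namespace Par

variable (T : Par)

/-- The matrix in one number. -/
def matW (m l P : ℕ) : Matrix (Fin m) (Fin l) (ZMod T.p) :=
  Matrix.of fun i j => (dg T.B P (T.n * i + j) : ZMod T.p)

/-- The matrix with the given rows. -/
noncomputable def matR (m l : ℕ) (A : List ℕ) : Matrix (Fin m) (Fin l) (ZMod T.p) :=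
  Matrix.of fun i j => (dg T.B (nth 0 A i) j : ZMod T.p)

/-- The rows are reduced. -/
def Rows (A : List ℕ) : Prop := ∀ r ∈ A, r < T.B ^ T.n ∧ Bd T.B T.cr r

noncomputable def rowsB (A : List ℕ) : Bool :=
  lt' (rp (Nat.pow 2 T.w) T.cr T.n) fun M => lt' (Nat.pow 2 (Nat.mul T.w T.n)) fun X =>
    allL A fun r => Nat.blt r X && Nat.beq (Nat.land r M) r

variable {T} {rows : ℕ}

theorem ok_iff (h : T.ok = true) : 2 ≤ T.B ∧ 1 ≤ T.n ∧ 1 ≤ T.cr ∧ T.cr + T.p * T.cq < T.B ∧
    T.n * (T.cr * T.cr) < T.B ∧ 1 ≤ T.p := by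
  simp only [ok, Bool.and_eq_true, Nat.ble_eq, Nat.blt_eq] at h
  exact ⟨by simpa using Nat.pow_le_pow_right (n := 2) (by norm_num) h.1, h.2⟩

theorem pow_eq (i : ℕ) : Nat.pow 2 (Nat.mul T.w i) = T.B ^ i := pow_mul 2 T.w i

theorem rowsB_sound (h : T.ok = true) {A : List ℕ} (hA : T.rowsB A = true) : T.Rows A := by
  obtain ⟨h1, -, -, h2, -⟩ := ok_iff h
  simp only [rowsB, lt'_eq, allL_iff, Bool.and_eq_true, Nat.blt_eq, Nat.beq_eq] at hA
  intro r hr
  refine ⟨pow_eq T.n ▸ (hA r hr).1, ?_⟩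
  rw [← (hA r hr).2]
  exact (bd_rp h1 (by omega) _).and r

theorem run_sound (h : T.ok = true) {k : Env → Bool} (hk : T.run rows k = true) :
    ∃ E, T.EOK rows E ∧ k E = true := by
  obtain ⟨h1, h2, h3, h4, -, h5⟩ := ok_iff h
  have h6 : T.B ≤ T.B ^ T.n := Nat.le_self_pow (by omega) _
  refine ⟨_, ⟨fun i => ?_, bd_rp h1 (by nlinarith) _, bd_rp h1 (by omega) _⟩, hk⟩
  show dg _ (rp (Nat.pow 2 (Nat.mul T.w T.n)) (T.B - 1) _) i = _
  rw [pow_eq, dg_rp (by omega) (by omega)]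

theorem quo_sound {E : Env} {k : ℕ → Bool} {y q : ℕ} (h : T.quo E k y q = true) :
    ∃ q, k q = true := by
  unfold quo at h
  generalize T.st = st at h
  induction st generalizing y q with
  | nil => exact ⟨q, h⟩
  | cons s st ih => exact ih h

theorem red_sound (h : T.ok = true) {E : Env} (hE : T.EOK rows E) {k : ℕ → Bool} {x : ℕ}
    (hk : T.red E k x = true) :
    ∃ r, k r = true ∧ Bd T.B T.cr r ∧ ∀ t, (dg T.B r t : ZMod T.p) = dg T.B x t := by
  obtain ⟨-, -, -, h4, -⟩ := ok_iff h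
  obtain ⟨q, hq⟩ := quo_sound hk
  simp only [lt'_eq] at hq
  have h1 : Bd T.B T.cq _ := hE.mq.and q
  have h2 : Bd T.B T.cr _ := hE.mr.and (x - T.p * (q &&& E.mq))
  change Bool.rec (motive := fun _ => Bool) false (k ((x - T.p * (q &&& E.mq)) &&& E.mr))
    (Nat.beq (((x - T.p * (q &&& E.mq)) &&& E.mr) + T.p * (q &&& E.mq)) x) = true at hq
  generalize (x - T.p * (q &&& E.mq)) &&& E.mr = r at *
  generalize q &&& E.mq = d at *
  cases hb : Nat.beq (r + T.p * d) x
  · rw [hb] at hq; exact absurd hq Bool.false_ne_true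
  · rw [hb] at hq
    refine ⟨r, hq, h2, fun t => ?_⟩
    have h3 : ∀ i, T.p * dg T.B d i ≤ T.p * T.cq := fun i => Nat.mul_le_mul_left _ (h1 i)
    have h5 := dg_mul (B := T.B) (c := T.p) (a := d) fun i => by have := h3 i; omega
    rw [← Nat.eq_of_beq_eq_true hb,
      dg_add fun i => by have := h3 i; have := h2 i; rw [h5]; omega, h5]
    simp

theorem dg_col (h : T.ok = true) {E : Env} (hE : T.EOK rows E) (P i : ℕ) :
    dg (T.B ^ T.n) (P &&& E.cm) i = if i < rows then dg T.B P (T.n * i) else 0 := by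
  obtain ⟨h1, h2, -⟩ := ok_iff h
  have e := hE.cm i
  rw [B, ← pow_mul] at e
  rw [B, ← pow_mul, dg_and, e]
  split_ifs
  · rw [Nat.and_two_pow_sub_one_eq_mod, pow_mul, ← dg_zero', dg_dg _ _ (by omega), add_zero]
  · simp

theorem dg_term (h : T.ok = true) {E : Env} (hE : T.EOK rows E) {P r : ℕ} (hP : Bd T.B T.cr P)
    (hr : r < T.B ^ T.n) (hb : Bd T.B T.cr r) (i : ℕ) {l : ℕ} (hl : l < T.n) :
    dg T.B (r * (P &&& E.cm)) (T.n * i + l) =
      (if i < rows then dg T.B P (T.n * i) else 0) * dg T.B r l := by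
  obtain ⟨h1, h2, h3, -, h5, -⟩ := ok_iff h
  have h6 : T.cr * T.cr < T.B := by nlinarith
  have h7 : ∀ c ≤ T.cr, ∀ t, c * dg T.B r t < T.B := fun c hc t =>
    lt_of_le_of_lt (Nat.mul_le_mul hc (hb t)) h6
  have h8 : ∀ i, (if i < rows then dg T.B P (T.n * i) else 0) ≤ T.cr := fun i => by
    split_ifs
    · exact hP _
    · omega
  have h9 : ∀ c ≤ T.cr, r * c < T.B ^ T.n := fun c hc => by
    by_contra hlt
    have e : ∀ t, dg T.B (c * r / T.B ^ T.n) t = 0 := fun t => by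
      rw [dg_div_pow, dg_mul (h7 c hc), ← dg_div_pow, Nat.div_eq_of_lt hr, dg_of_zero, mul_zero]
    have e2 : ∀ x, (∀ t, dg T.B x t = 0) → x = 0 := fun x => by
      induction x using Nat.strong_induction_on with
      | _ x ih =>
        intro hx
        by_contra h0
        have := ih (x / T.B) (Nat.div_lt_self (by omega) h1) fun t => by rw [← dg_succ', hx]
        have h0' := hx 0
        rw [dg_zero'] at h0'
        have h1' := Nat.div_add_mod x T.B
        rw [this, h0'] at h1'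
        exact h0 h1'.symm
    have := (Nat.div_eq_zero_iff.1 (e2 _ e)).resolve_left (by positivity)
    rw [mul_comm] at this
    omega
  rw [← dg_dg _ _ hl, dg_mul fun j => by rw [dg_col h hE]; exact h9 _ (h8 j), dg_col h hE,
    mul_comm r, dg_mul (h7 _ (h8 i))]

theorem acm_sound (h : T.ok = true) {E : Env} (hE : T.EOK rows E) {A : List ℕ} (hA : T.Rows A)
    {k : ℕ → Bool} {P acc c : ℕ} (hP : Bd T.B T.cr P) (hc : Bd T.B c acc)
    (hl : c + A.length * (T.cr * T.cr) < T.B) (hk : T.acm E A k P acc = true) :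
    ∃ y, k y = true ∧ ∀ i < rows, ∀ l < T.n, dg T.B y (T.n * i + l) = dg T.B acc (T.n * i + l) +
      ∑ j ∈ Finset.range A.length, dg T.B P (T.n * i + j) * dg T.B (nth 0 A j) l := by
  obtain ⟨-, h2, -⟩ := ok_iff h
  induction A generalizing P acc c with
  | nil => exact ⟨acc, hk, by simp⟩
  | cons r A ih =>
    have hr := hA r (by simp)
    have h1 : Bd T.B (T.cr * T.cr) (r * (P &&& E.cm)) := fun t => by
      rw [← Nat.div_add_mod t T.n, dg_term h hE hP hr.1 hr.2 _ (Nat.mod_lt _ h2)]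
      refine Nat.mul_le_mul ?_ (hr.2 _)
      split_ifs
      · exact hP _
      · omega
    rw [List.length_cons, Nat.succ_mul] at hl
    have h3 := dg_add (B := T.B) (a := acc) (b := r * (P &&& E.cm)) fun t => by
      have := hc t; have := h1 t; omega
    have h4 : ∀ t, dg T.B (P >>> T.w) t = dg T.B P (t + 1) := fun t => by
      rw [Nat.shiftRight_eq_div_pow, dg_succ']
    obtain ⟨y, h5, h6⟩ := ih (P := P >>> T.w) (acc := acc + r * (P &&& E.cm)) (c := c + T.cr * T.cr)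
      (fun r hr => hA r (by simp [hr])) (fun t => h4 t ▸ hP _)
      (fun t => by rw [h3]; exact Nat.add_le_add (hc t) (h1 t)) (by omega) hk
    refine ⟨y, h5, fun i hi l hl => ?_⟩
    rw [h6 i hi l hl, h3, dg_term h hE hP hr.1 hr.2 _ hl, if_pos hi, List.length_cons,
      Finset.sum_range_succ', add_assoc, add_comm (dg T.B P (T.n * i) * _)]
    simp only [h4]
    rfl

theorem mul_sound (h : T.ok = true) {E : Env} (hE : T.EOK rows E) {A : List ℕ} (hA : T.Rows A) {q : ℕ}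
    (hq : A.length = q) (hn : q ≤ T.n) {k : ℕ → Bool} {P : ℕ} (hP : Bd T.B T.cr P)
    (hk : T.mul E A k P = true) : ∃ Y, k Y = true ∧ Bd T.B T.cr Y ∧
      ∀ m ≤ rows, ∀ l ≤ T.n, T.matW m l Y = T.matW m q P * T.matR q l A := by
  obtain ⟨-, -, -, -, h5, -⟩ := ok_iff h
  subst hq
  obtain ⟨y, h1, h2⟩ := acm_sound h hE hA hP (c := 0) (fun t => (dg_of_zero _ _).le)
    (by have := Nat.mul_le_mul_right (T.cr * T.cr) hn; omega) hk
  obtain ⟨r, h3, h4, h6⟩ := red_sound h hE h1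
  refine ⟨r, h3, h4, fun m hm l hl => ?_⟩
  ext i j
  rw [matW, of_apply, h6, h2 _ (by omega) _ (by omega), dg_of_zero, zero_add, mul_apply,
    Nat.cast_sum, Finset.sum_range]
  simp [matW, matR]

variable (T) in
/-- The letters have the given matrices. -/
def Lets (g : ℕ → Matrix (Fin T.n) (Fin T.n) (ZMod T.p)) (As : List (List ℕ)) : Prop :=
  ∀ a < As.length, T.Rows (nth [] As a) ∧ (nth [] As a).length = T.n ∧
    g a = T.matR T.n T.n (nth [] As a)

theorem word_sound (h : T.ok = true) {E : Env} (hE : T.EOK rows E)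
    {g : ℕ → Matrix (Fin T.n) (Fin T.n) (ZMod T.p)} {As : List (List ℕ)} (hg : T.Lets g As)
    {w : List ℕ} (hw : ∀ a ∈ w, a < As.length) {k : ℕ → Bool} {P : ℕ} (hP : Bd T.B T.cr P)
    (hk : T.word E As w k P = true) : ∃ Y, k Y = true ∧ Bd T.B T.cr Y ∧
      ∀ m ≤ rows, T.matW m T.n Y = T.matW m T.n P * ev g w := by
  induction w generalizing P with
  | nil => exact ⟨P, hk, hP, by simp⟩
  | cons a w ih =>
    obtain ⟨h1, h2, h3⟩ := hg a (hw a (by simp))
    obtain ⟨Z, h4, h5, h6⟩ := mul_sound h hE h1 h2 le_rfl hP hk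
    obtain ⟨Y, h7, h8, h9⟩ := ih (fun b hb => hw b (by simp [hb])) h5 h4
    exact ⟨Y, h7, h8, fun m hm => by rw [h9 m hm, h6 m hm _ le_rfl, ev_cons, h3, Matrix.mul_assoc]⟩

theorem dg_pk {A : List ℕ} (hA : T.Rows A) (i : ℕ) : dg (T.B ^ T.n) (T.pk A) i = nth 0 A i := by
  induction A generalizing i with
  | nil => exact dg_of_zero _ _
  | cons r A ih =>
    have e : T.pk (r :: A) = r + T.B ^ T.n * T.pk A := by rw [← pow_eq]; rfl
    have := dg_cons (hA r (by simp)).1 (T.pk A)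
    rw [e]
    rcases i with _ | i
    · exact this.1
    · rw [this.2]; exact ih (fun r hr => hA r (by simp [hr])) i

theorem bd_pk (h : T.ok = true) {A : List ℕ} (hA : T.Rows A) : Bd T.B T.cr (T.pk A) := fun t => by
  obtain ⟨-, h2, -⟩ := ok_iff h
  rw [← Nat.div_add_mod t T.n, ← dg_dg _ _ (Nat.mod_lt _ h2), dg_pk hA]
  by_cases hi : t / T.n < A.length
  · exact (hA _ (FT.nth_mem _ hi)).2 _
  · rw [nth_eq, List.getD_eq_default _ _ (by omega), dg_of_zero]; omega

theorem matW_pk {A : List ℕ} (hA : T.Rows A) (m : ℕ) {l : ℕ} (hl : l ≤ T.n) :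
    T.matW m l (T.pk A) = T.matR m l A := by
  ext i j
  rw [matW, matR, of_apply, of_apply, ← dg_dg _ _ (by omega), dg_pk hA]

theorem rows_idR (h : T.ok = true) : T.Rows T.idR := fun r hr => by
  obtain ⟨h1, -, h3, -⟩ := ok_iff h
  obtain ⟨i, hi, rfl⟩ := List.mem_map.1 hr
  rw [pow_eq]
  refine ⟨Nat.pow_lt_pow_right h1 (List.mem_range.1 hi), fun t => ?_⟩
  rw [dg_pow h1]; split_ifs <;> omega

theorem matR_idR (h : T.ok = true) : T.matR T.n T.n T.idR = 1 := by
  obtain ⟨h1, -⟩ := ok_iff h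
  ext i j
  rw [matR, of_apply, idR, nth_eq, List.getD_eq_getElem _ _ (by simp), List.getElem_map,
    List.getElem_range, pow_eq, dg_pow h1, one_apply]
  simp [Fin.ext_iff]

end Par

end Cfsg.Agent.PM
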